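import Groth.Agent.H1Lech.Superficial
import Groth.Agent.H1HK.Basic
import Groth.Agent.H1Koszul.Limit
import Groth.Agent.S4688

/-! Lech's inequality. -/

set_option autoImplicit false
universe u

open IsLocalRing Filter Topology
open Groth.Agent.H1HK (colen Cofin)

namespace Groth.Agent.H1Lech

variable {R : Type u} [CommRing R] [IsNoetherianRing R] [IsLocalRing R]

/-- `e` is the normalised multiplicity of `I`. -/
def HasMult (d : ℕ) (I : Ideal R) (e : ℝ) : Prop :=
  Tendsto (fun n : ℕ => (colen (I ^ n) R : ℝ) / (n : ℝ) ^ d) atTop (𝓝 e)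

theorem cofin_pow {I : Ideal R} (h : Cofin I) (n : ℕ) : Cofin (I ^ n) := by
  obtain ⟨t, ht⟩ := h
  exact ⟨t * n, by rw [pow_mul]; exact Ideal.pow_right_mono ht n⟩

theorem cofin_max : Cofin (maximalIdeal R) := ⟨1, (pow_one _).le⟩

theorem exists_hasMult (d : ℕ) (hd : ringKrullDim R = d) {I : Ideal R} (hI : Cofin I) :
    ∃ e, HasMult d I e :=
  H1Koszul.exists_tendsto_samuelLen (I := I) hI d R ((Module.supportDim_self_eq_ringKrullDim R).trans hd).le

theorem colen_self {K : Ideal R} (hK : Cofin K) : (colen K R : ℕ∞) = Module.length R (R ⧸ K) := by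
  rw [H1HK.colen_cast hK]
  exact (Submodule.quotEquivOfEq _ _ (Ideal.mul_top _)).length_eq

/-- Colengths in a quotient ring. -/
theorem colen_map_mk (J K : Ideal R) : colen (K.map (Ideal.Quotient.mk J)) (R ⧸ J) = colen K (R ⧸ J) := by
  unfold colen
  congr 1
  rw [← Module.length_eq_of_surjective (S := R) (R := R ⧸ J) Ideal.Quotient.mk_surjective,
    (Submodule.quotEquivOfEq _ _ (Ideal.smul_top_eq_map (S := R ⧸ J) K) ≪≫ₗ
      Submodule.Quotient.restrictScalarsEquiv R _).length_eq]
  exact ((Submodule.quotEquivOfEq _ _ (Ideal.mul_top _)).restrictScalars R).length_eq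

theorem cofin_map_mk {J K : Ideal R} [IsLocalRing (R ⧸ J)] (hK : Cofin K) : Cofin (K.map (Ideal.Quotient.mk J)) := by
  obtain ⟨t, ht⟩ := hK
  refine ⟨t, ?_⟩
  rw [← IsLocalRing.map_maximalIdeal_of_surjective (Ideal.Quotient.mk J) Ideal.Quotient.mk_surjective, ← Ideal.map_pow]
  exact Ideal.map_mono ht

theorem infinite_residue (J : Ideal R) [IsLocalRing (R ⧸ J)] [Infinite (ResidueField R)] :
    Infinite (ResidueField (R ⧸ J)) := by
  haveI : IsLocalHom (Ideal.Quotient.mk J) := IsLocalHom.of_surjective _ Ideal.Quotient.mk_surjective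
  exact Infinite.of_injective _ (ResidueField.map (Ideal.Quotient.mk J)).injective

/-- Colon ideals by an element. -/
def col (K : Ideal R) (z : R) : Ideal R := Submodule.comap (LinearMap.mulRight R z) K

omit [IsNoetherianRing R] [IsLocalRing R] in
theorem mem_col {K : Ideal R} {z y : R} : y ∈ col K z ↔ y * z ∈ K := Iff.rfl

omit [IsNoetherianRing R] [IsLocalRing R] in
theorem le_col (K : Ideal R) (z : R) : K ≤ col K z := fun _ hy => K.mul_mem_right z hy

theorem cofin_mono {I J : Ideal R} (h : Cofin I) (hIJ : I ≤ J) : Cofin J :=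
  let ⟨t, ht⟩ := h; ⟨t, ht.trans hIJ⟩

theorem colen_mono {I J : Ideal R} (hI : Cofin I) (hIJ : I ≤ J) : colen J R ≤ colen I R :=
  ENat.toNat_le_toNat (Module.length_le_of_surjective _ (Submodule.factor_surjective (Submodule.smul_mono hIJ le_rfl)))
    (H1HK.length_quot_ne_top hI)

/-- The fundamental exact sequence for colon ideals. -/
theorem colen_eq_add {K : Ideal R} (hK : Cofin K) (x : R) :
    colen K R = colen (col K x) R + colen (K.map (Ideal.Quotient.mk (Ideal.span {x}))) (R ⧸ Ideal.span {x}) := by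
  rw [colen_map_mk]
  have hs : Cofin (K ⊔ Ideal.span {x}) := cofin_mono hK le_sup_left
  have h1 : (colen K (R ⧸ Ideal.span {x}) : ℕ∞) = Module.length R (R ⧸ (K ⊔ Ideal.span {x})) := by
    rw [H1HK.colen_cast hK]
    refine (Submodule.quotEquivOfEq _ _ ?_ ≪≫ₗ Submodule.quotientQuotientEquivQuotientSup (Ideal.span {x}) K ≪≫ₗ
      Submodule.quotEquivOfEq _ _ (sup_comm _ _)).length_eq
    rw [← Submodule.range_mkQ (Ideal.span {x}), ← Submodule.map_top, ← Submodule.map_smul'', smul_eq_mul, Ideal.mul_top]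
  let f : (R ⧸ col K x) →ₗ[R] R ⧸ K := Submodule.mapQ _ _ (LinearMap.mulRight R x) le_rfl
  let g : (R ⧸ K) →ₗ[R] R ⧸ (K ⊔ Ideal.span {x}) := Submodule.factor le_sup_left
  have hf : Function.Injective f := by
    rw [← LinearMap.ker_eq_bot, eq_bot_iff]
    intro z hz
    obtain ⟨z, rfl⟩ := Submodule.Quotient.mk_surjective _ z
    exact (Submodule.Quotient.mk_eq_zero _).2 ((Submodule.Quotient.mk_eq_zero _).1 hz : z * x ∈ K)
  have hex : Function.Exact f g := fun z => by
    obtain ⟨z, rfl⟩ := Submodule.Quotient.mk_surjective _ z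
    constructor
    · intro h
      have hz : z ∈ K ⊔ Ideal.span {x} := (Submodule.Quotient.mk_eq_zero _).1 h
      obtain ⟨a, ha, b, hb, rfl⟩ := Submodule.mem_sup.1 hz
      obtain ⟨c, rfl⟩ := Ideal.mem_span_singleton'.1 hb
      refine ⟨Submodule.Quotient.mk c, ?_⟩
      show Submodule.Quotient.mk (c * x) = _
      rw [Submodule.Quotient.eq, show c * x - (a + c * x) = -a by ring]
      exact neg_mem ha
    · rintro ⟨c, hc⟩
      obtain ⟨c, rfl⟩ := Submodule.Quotient.mk_surjective _ c
      rw [← hc]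
      exact (Submodule.Quotient.mk_eq_zero _).2 (Submodule.mem_sup_right (Ideal.mem_span_singleton'.2 ⟨c, rfl⟩))
  have h2 := Module.length_eq_add_of_exact f g hf (Submodule.factor_surjective _) hex
  rw [← colen_self hK, ← colen_self (cofin_mono hK (le_col K x)), ← h1] at h2
  exact_mod_cast h2

theorem col_col (K : Ideal R) (z w : R) : col (col K z) w = col K (w * z) := by
  ext y; rw [mem_col, mem_col, mem_col, mul_assoc]

theorem colen_eq_sum {K : Ideal R} (hK : Cofin K) (x : R) : ∀ N : ℕ,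
    colen K R = (∑ j ∈ Finset.range N, colen ((col K (x ^ j)).map (Ideal.Quotient.mk (Ideal.span {x})))
      (R ⧸ Ideal.span {x})) + colen (col K (x ^ N)) R
  | 0 => by
    rw [Finset.range_zero, Finset.sum_empty, zero_add, pow_zero]
    congr 1
    ext y; rw [mem_col, mul_one]
  | N + 1 => by
    rw [colen_eq_sum hK x N, Finset.sum_range_succ, add_assoc,
      colen_eq_add (cofin_mono hK (le_col K (x ^ N))) x, col_col, ← pow_succ' x N]
    ring

theorem sum_range_div (g : ℕ → ℕ) (n : ℕ) : ∀ q, ∑ j ∈ Finset.range (n * q), g (j / n) = n * ∑ i ∈ Finset.range q, g i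
  | 0 => by simp
  | q + 1 => by
    rw [Nat.mul_succ, Finset.sum_range_add, sum_range_div g n q, Finset.sum_range_succ, mul_add]
    congr 1
    rw [Finset.sum_congr rfl (g := fun _ => g q) fun j hj => ?_, Finset.sum_const, Finset.card_range, smul_eq_mul]
    have hj' := Finset.mem_range.1 hj
    rw [Nat.mul_add_div (by omega), Nat.div_eq_of_lt hj', add_zero]

/-- Sections of a superficial element bound the multiplicity. -/
theorem mult_le_of_superficial {d : ℕ} {x : R} (N : ℕ)
    (hx : ∀ n, N ≤ n → ∀ y, x * y ∈ maximalIdeal R ^ (n + 1) → y ∈ maximalIdeal R ^ n)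
    (hxm : x ∈ maximalIdeal R) [IsLocalRing (R ⧸ Ideal.span {x})] {e e' : ℝ}
    (he : HasMult (d + 1) (maximalIdeal R) e) (he' : HasMult d (maximalIdeal (R ⧸ Ideal.span {x})) e') :
    e' ≤ (d + 1 : ℕ) * e := by
  by_contra hcon
  push Not at hcon
  obtain ⟨b, hb1, hb2⟩ := exists_between hcon
  have hD : (0 : ℝ) < ((d + 1 : ℕ) : ℝ) := Nat.cast_pos.2 d.succ_pos
  have hev := he'.eventually (eventually_gt_nhds hb2)
  rw [eventually_atTop] at hev
  obtain ⟨N₁, hN₁⟩ := hev
  have hmp : (maximalIdeal R).map (Ideal.Quotient.mk (Ideal.span {x})) = maximalIdeal (R ⧸ Ideal.span {x}) :=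
    IsLocalRing.map_maximalIdeal_of_surjective _ Ideal.Quotient.mk_surjective
  set h : ℕ → ℝ := fun n => (colen (maximalIdeal R ^ n) R : ℝ) with hh
  set N₀ := max (max N N₁) 1 with hN₀
  have hb0 : 0 ≤ b := le_trans (mul_nonneg hD.le (ge_of_tendsto' he fun n => by positivity)) hb1.le
  have hstep : ∀ n, N₀ ≤ n → b * ((n + 1 : ℕ) : ℝ) ^ d ≤ h (n + 1) - h n := by
    intro n hn
    have hcol : col (maximalIdeal R ^ (n + 1)) x = maximalIdeal R ^ n := by
      ext y
      rw [mem_col]
      refine ⟨fun hy => hx n (by omega) y (by rwa [mul_comm]), fun hy => ?_⟩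
      rw [pow_succ]
      exact Ideal.mul_mem_mul hy hxm
    have h1 := colen_eq_add (cofin_pow cofin_max (n + 1)) x
    rw [hcol, Ideal.map_pow, hmp] at h1
    have h2 : h (n + 1) = h n + (colen (maximalIdeal (R ⧸ Ideal.span {x}) ^ (n + 1)) (R ⧸ Ideal.span {x}) : ℝ) := by
      simp only [hh]; exact_mod_cast h1
    rw [h2, add_sub_cancel_left]
    have h3 := hN₁ (n + 1) (by omega)
    rw [lt_div_iff₀ (pow_pos (Nat.cast_pos.2 n.succ_pos) d)] at h3
    exact h3.le
  let c := b / ((d + 1 : ℕ) : ℝ)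
  have hmono : ∀ n, N₀ ≤ n → h N₀ - c * (N₀ : ℝ) ^ (d + 1) ≤ h n - c * (n : ℝ) ^ (d + 1) := by
    intro n hn
    induction n, hn using Nat.le_induction with
    | base => exact le_rfl
    | succ n hn ih =>
      have key : ((n + 1 : ℕ) : ℝ) ^ (d + 1) - (n : ℝ) ^ (d + 1) ≤ ((d + 1 : ℕ) : ℝ) * ((n + 1 : ℕ) : ℝ) ^ d := by
        have := abs_pow_sub_pow_le ((n + 1 : ℕ) : ℝ) (n : ℝ) (d + 1)
        push_cast at this ⊢
        have hn1 : (0 : ℝ) ≤ (n : ℝ) + 1 := by positivity
        rw [abs_of_nonneg hn1, Nat.abs_cast,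
          max_eq_left (by linarith), show (n : ℝ) + 1 - n = 1 by ring, abs_one, one_mul] at this
        exact (le_abs_self _).trans this
      have h1 := mul_le_mul_of_nonneg_left key (show 0 ≤ c from div_nonneg hb0 hD.le)
      rw [← mul_assoc, div_mul_cancel₀ b hD.ne'] at h1
      have := hstep n hn
      linarith
  have hlow : Tendsto (fun n : ℕ => (h N₀ - c * (N₀ : ℝ) ^ (d + 1)) / (n : ℝ) ^ (d + 1) + c) atTop (𝓝 c) := by
    have h0 : Tendsto (fun n : ℕ => (h N₀ - c * (N₀ : ℝ) ^ (d + 1)) / (n : ℝ) ^ (d + 1)) atTop (𝓝 0) :=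
      tendsto_const_nhds.div_atTop ((tendsto_pow_atTop d.succ_ne_zero).comp tendsto_natCast_atTop_atTop)
    simpa using h0.add_const c
  have hc : c ≤ e := by
    refine le_of_tendsto_of_tendsto hlow he ?_
    filter_upwards [eventually_ge_atTop N₀] with n hn
    have hn0 : (0 : ℝ) < (n : ℝ) ^ (d + 1) := pow_pos (Nat.cast_pos.2 (by omega)) _
    rw [le_div_iff₀ hn0, add_mul, div_mul_cancel₀ _ hn0.ne']
    have := hmono n hn
    simp only [hh] at this ⊢
    linarith
  rw [div_le_iff₀ hD] at hc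
  linarith

/-- Killing the elements of finite length. -/
theorem exists_depth (d : ℕ) (hd : ringKrullDim R = ((d + 1 : ℕ) : WithBot ℕ∞)) :
    ∃ H : Ideal R, ∃ c : ℕ, (∀ a ∈ maximalIdeal R ^ c, ∀ y ∈ H, a * y = 0) ∧
      ringKrullDim (R ⧸ H) = ((d + 1 : ℕ) : WithBot ℕ∞) ∧ H ≠ ⊤ ∧
      ∀ y, (∀ a ∈ maximalIdeal R, a * y ∈ H) → y ∈ H := by
  let f : ℕ →o Submodule R R := ⟨fun c => Submodule.torsionBySet R R (maximalIdeal R ^ c : Ideal R),
    fun a b hab y hy => (Submodule.mem_torsionBySet_iff _ _).2 fun z =>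
      (Submodule.mem_torsionBySet_iff _ _).1 hy ⟨z, Ideal.pow_le_pow_right hab z.2⟩⟩
  obtain ⟨c, hc⟩ := monotone_stabilizes_iff_noetherian.2 inferInstance f
  have hmem : ∀ {k : ℕ} {y : R}, y ∈ f k ↔ ∀ a ∈ maximalIdeal R ^ k, a * y = 0 := fun {k y} =>
    (Submodule.mem_torsionBySet_iff _ _).trans ⟨fun h a ha => h ⟨a, ha⟩, fun h a => h a a.2⟩
  let H : Ideal R := f c
  have hnil : ∀ P : PrimeSpectrum R, H ≤ P.asIdeal := fun P => by
    obtain ⟨Q, hQ, hQP⟩ := Ideal.exists_minimalPrimes_le (bot_le : (⊥ : Ideal R) ≤ P.asIdeal)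
    haveI := hQ.isPrime
    intro y hy
    by_cases hQm : maximalIdeal R ≤ Q
    · exfalso
      have : Ring.KrullDimLE 0 R := Ring.krullDimLE_zero_iff.2 fun P' hP' => by
        have h1 := hQ.2 ⟨hP', bot_le⟩ ((IsLocalRing.le_maximalIdeal hP'.ne_top).trans hQm)
        rw [show P' = maximalIdeal R from le_antisymm (IsLocalRing.le_maximalIdeal hP'.ne_top) (hQm.trans h1)]
        exact maximalIdeal.isMaximal R
      have h0 := Ring.krullDimLE_iff.1 this
      rw [hd, Nat.cast_le] at h0
      omega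
    · obtain ⟨a, ha, haQ⟩ := SetLike.not_le_iff_exists.1 hQm
      have h1 : a ^ c * y ∈ Q := by rw [hmem.1 hy _ (Ideal.pow_mem_pow ha c)]; exact zero_mem _
      exact hQP (((‹Q.IsPrime›).mem_or_mem h1).resolve_left fun h => haQ (‹Q.IsPrime›.mem_of_pow_mem _ h))
  refine ⟨H, c, fun a ha y hy => hmem.1 hy a ha, ?_, fun htop => ?_, fun y hy => ?_⟩
  · rw [ringKrullDim_quotient, ← hd, ringKrullDim]
    have : PrimeSpectrum.zeroLocus (H : Set R) = Set.univ := Set.eq_univ_of_forall fun P => hnil P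
    rw [this]
    exact Order.krullDim_eq_of_orderIso ⟨Equiv.Set.univ _, Iff.rfl⟩
  · exact (maximalIdeal.isMaximal R).ne_top (top_le_iff.1 (htop ▸ hnil ⟨maximalIdeal R, (maximalIdeal.isMaximal R).isPrime⟩))
  · have h1 : y ∈ f (c + 1) := hmem.2 fun a ha => by
      rw [pow_succ] at ha
      refine Submodule.smul_induction_on ha (fun u hu v hv => ?_) fun u v hu hv => by rw [add_mul, hu, hv, add_zero]
      rw [smul_eq_mul, mul_assoc]
      exact hmem.1 (hy v hv) u hu
    exact (hc (c + 1) (Nat.le_succ c)).ge h1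

theorem hasMult_quot {d : ℕ} {H : Ideal R} {c : ℕ} (hH : ∀ a ∈ maximalIdeal R ^ c, ∀ y ∈ H, a * y = 0)
    {I : Ideal R} (hI : Cofin I) {e : ℝ} (he : HasMult (d + 1) I e) :
    HasMult (d + 1) (I.map (Ideal.Quotient.mk H)) e := by
  haveI : Module.Finite R H := Module.Finite.iff_fg.2 (IsNoetherian.noetherian H)
  have hfin : Module.length R H ≠ ⊤ := H22Alg.length_ne_top_of_support_maximal fun p hp => by
    have h1 : maximalIdeal R ^ c ≤ p.asIdeal := le_trans (fun a ha => Module.mem_annihilator.2 fun y =>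
      Subtype.ext (hH a ha y y.2)) (Module.mem_support_iff_of_finite.1 hp)
    rw [← (maximalIdeal.isMaximal R).eq_of_le p.isPrime.ne_top (p.isPrime.le_of_pow_le h1)]
    exact maximalIdeal.isMaximal R
  have hb : ∀ n, colen (I ^ n) (R ⧸ H) ≤ colen (I ^ n) R ∧
      colen (I ^ n) R ≤ (Module.length R H).toNat + colen (I ^ n) (R ⧸ H) := fun n => by
    have h1 := H1HK.colen_le_of_hom (cofin_pow hI n) H.mkQ
    have h2 := H1HK.colen_le_of_hom (cofin_pow hI n) H.subtype
    haveI : Subsingleton ((R ⧸ H) ⧸ LinearMap.range H.mkQ) := Submodule.Quotient.subsingleton_iff.2 H.range_mkQ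
    rw [show colen (I ^ n) ((R ⧸ H) ⧸ LinearMap.range H.mkQ) = 0 by
      rw [colen, Module.length_eq_zero, ENat.toNat_zero], add_zero] at h1
    rw [H1HK.colen_congr (cofin_pow hI n) (Submodule.quotEquivOfEq _ _ (Submodule.range_subtype H))] at h2
    refine ⟨h1, h2.trans (Nat.add_le_add_right ?_ _)⟩
    exact ENat.toNat_le_toNat (Module.length_le_of_surjective (Submodule.mkQ _) (Submodule.mkQ_surjective _)) hfin
  have heq : ∀ n : ℕ, colen ((I.map (Ideal.Quotient.mk H)) ^ n) (R ⧸ H) = colen (I ^ n) (R ⧸ H) := fun n => by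
    rw [← Ideal.map_pow, colen_map_mk]
  have h0 : Tendsto (fun n : ℕ => ((Module.length R H).toNat : ℝ) / (n : ℝ) ^ (d + 1)) atTop (𝓝 0) :=
    tendsto_const_nhds.div_atTop ((tendsto_pow_atTop d.succ_ne_zero).comp tendsto_natCast_atTop_atTop)
  have h3 := he.sub h0
  rw [sub_zero] at h3
  refine tendsto_of_tendsto_of_tendsto_of_le_of_le h3 he (fun n => ?_) fun n => ?_
  · simp only [heq]
    rw [← sub_div]
    refine div_le_div_of_nonneg_right ?_ (by positivity)
    have : ((colen (I ^ n) R : ℕ) : ℝ) ≤ (Module.length R H).toNat + (colen (I ^ n) (R ⧸ H) : ℕ) := by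
      exact_mod_cast (hb n).2
    linarith
  · simp only [heq]
    gcongr
    exact (hb n).1

/-- Lech's inequality over an infinite residue field. -/
theorem lech_of_infinite : ∀ (d : ℕ) (R : Type u) [CommRing R] [IsNoetherianRing R] [IsLocalRing R]
    [Infinite (ResidueField R)], ringKrullDim R = (d : WithBot ℕ∞) → ∀ (I : Ideal R), I ≤ maximalIdeal R → Cofin I →
      ∀ eI em : ℝ, HasMult d I eI → HasMult d (maximalIdeal R) em →
        eI ≤ (d.factorial : ℝ) * em * colen I R := by
  intro d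
  induction d with
  | zero =>
    intro R _ _ _ _ hd I hIm hI eI em heI hem
    haveI : Ring.KrullDimLE 0 R := Ring.krullDimLE_iff.2 hd.le
    haveI : IsArtinianRing R := IsNoetherianRing.isArtinianRing_of_krullDimLE_zero
    obtain ⟨k, hk⟩ := IsArtinianRing.isNilpotent_jacobson_bot (R := R)
    rw [IsLocalRing.jacobson_eq_maximalIdeal ⊥ bot_ne_top] at hk
    have hlim : ∀ (K : Ideal R) (e : ℝ), K ≤ maximalIdeal R → HasMult 0 K e → e = colen (⊥ : Ideal R) R := by
      intro K e hK he
      refine tendsto_nhds_unique he (Tendsto.congr' ?_ tendsto_const_nhds)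
      filter_upwards [eventually_ge_atTop k] with n hn
      have : K ^ n = ⊥ := le_bot_iff.1 (((Ideal.pow_right_mono hK n).trans (Ideal.pow_le_pow_right hn)).trans hk.le)
      rw [this, pow_zero, div_one]
    rw [hlim I eI hIm heI, ← hlim _ em le_rfl hem, Nat.factorial_zero, Nat.cast_one, one_mul]
    refine le_mul_of_one_le_right (by rw [hlim _ em le_rfl hem]; positivity) ?_
    refine Nat.one_le_cast.2 (Nat.one_le_iff_ne_zero.2 fun h0 => ?_)
    have h1 := colen_self hI
    rw [h0, Nat.cast_zero, eq_comm, Module.length_eq_zero_iff, Submodule.Quotient.subsingleton_iff] at h1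
    exact (maximalIdeal.isMaximal R).ne_top (top_le_iff.1 (h1 ▸ hIm))
  | succ d ih =>
    classical
    intro R₀ _ _ _ _ hd₀ I₀ hI₀m hI₀ eI em heI₀ hem₀
    obtain ⟨H, c, hH, hd, hHtop, hdepth₀⟩ := exists_depth d hd₀
    haveI : Nontrivial (R₀ ⧸ H) := Ideal.Quotient.nontrivial_iff.2 hHtop
    haveI : IsLocalRing (R₀ ⧸ H) := IsLocalRing.of_surjective' _ Ideal.Quotient.mk_surjective
    haveI := infinite_residue H
    let R := R₀ ⧸ H
    let I : Ideal R := I₀.map (Ideal.Quotient.mk H)
    have hmR : (maximalIdeal R₀).map (Ideal.Quotient.mk H) = maximalIdeal R :=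
      IsLocalRing.map_maximalIdeal_of_surjective _ Ideal.Quotient.mk_surjective
    have hI : Cofin I := cofin_map_mk hI₀
    have hIm : I ≤ maximalIdeal R := hmR ▸ Ideal.map_mono hI₀m
    have heI : HasMult (d + 1) I eI := hasMult_quot hH hI₀ heI₀
    have hem : HasMult (d + 1) (maximalIdeal R) em := hmR ▸ hasMult_quot hH cofin_max hem₀
    have hlen : colen I R ≤ colen I₀ R₀ := by
      rw [colen_map_mk]
      have h1 := H1HK.colen_le_of_hom hI₀ H.mkQ
      haveI : Subsingleton ((R₀ ⧸ H) ⧸ LinearMap.range H.mkQ) := Submodule.Quotient.subsingleton_iff.2 H.range_mkQ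
      rwa [show colen I₀ ((R₀ ⧸ H) ⧸ LinearMap.range H.mkQ) = 0 by
        rw [colen, Module.length_eq_zero, ENat.toNat_zero], add_zero] at h1
    have hdepth : maximalIdeal R ∉ associatedPrimes R R := fun hass => by
      obtain ⟨-, y, hy⟩ := isAssociatedPrime_iff.1 hass
      obtain ⟨y, rfl⟩ := Ideal.Quotient.mk_surjective y
      have : y ∈ H := hdepth₀ y fun a ha => by
        have h1 : Ideal.Quotient.mk H a ∈ maximalIdeal R := hmR ▸ Ideal.mem_map_of_mem _ ha
        rw [hy, Submodule.mem_colon_singleton, Submodule.mem_bot, smul_eq_mul, ← map_mul, Ideal.Quotient.eq_zero_iff_mem] at h1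
        exact h1
      refine (maximalIdeal.isMaximal R).ne_top ?_
      rw [hy, Ideal.Quotient.eq_zero_iff_mem.2 this]
      exact (Ideal.eq_top_iff_one _).2 (Submodule.mem_colon_singleton.2 (by simp))
    obtain ⟨x, hxm, hxreg, N, hxN⟩ := exists_superficial hdepth
    let X : Ideal R := Ideal.span {x}
    have hXm : X ≤ maximalIdeal R := (Ideal.span_singleton_le_iff_mem _).2 hxm
    haveI : Nontrivial (R ⧸ X) := Ideal.Quotient.nontrivial_iff.2 fun h =>
      (maximalIdeal.isMaximal R).ne_top (top_le_iff.1 (h ▸ hXm))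
    haveI : IsLocalRing (R ⧸ X) := IsLocalRing.of_surjective' _ Ideal.Quotient.mk_surjective
    haveI := infinite_residue X
    have hdX : ringKrullDim (R ⧸ X) = (d : WithBot ℕ∞) := by
      have h1 := ringKrullDim_quotient_span_singleton_succ_eq_ringKrullDim hxreg hxm
      rw [hd, Nat.cast_add, Nat.cast_one] at h1
      exact le_antisymm (ENat.WithBot.add_le_add_one_right_iff.1 h1.le) (ENat.WithBot.add_le_add_one_right_iff.1 h1.ge)
    have hmX : (maximalIdeal R).map (Ideal.Quotient.mk X) = maximalIdeal (R ⧸ X) :=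
      IsLocalRing.map_maximalIdeal_of_surjective _ Ideal.Quotient.mk_surjective
    obtain ⟨ē, hē⟩ := exists_hasMult d hdX (cofin_max (R := R ⧸ X))
    have hbar := mult_le_of_superficial N hxN hxm hem hē
    -- the colon ideals
    obtain ⟨t, ht⟩ := hI
    have hex : ∃ q, x ^ q ∈ I := ⟨t, ht (Ideal.pow_mem_pow hxm t)⟩
    let q := Nat.find hex
    have hq : x ^ q ∈ I := Nat.find_spec hex
    let J : ℕ → Ideal (R ⧸ X) := fun i => (col I (x ^ i)).map (Ideal.Quotient.mk X)
    have hJ : ∀ i, Cofin (J i) := fun i => cofin_map_mk (cofin_mono ⟨t, ht⟩ (le_col I _))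
    have hJm : ∀ i ∈ Finset.range q, J i ≤ maximalIdeal (R ⧸ X) := fun i hi => hmX ▸ Ideal.map_mono
      (IsLocalRing.le_maximalIdeal fun htop => Nat.find_min hex (Finset.mem_range.1 hi) (by
        have h1 : (1 : R) * x ^ i ∈ I := mem_col.1 (htop.ge trivial)
        rwa [one_mul] at h1))
    choose eJ heJ using fun i => exists_hasMult d hdX (hJ i)
    -- first inequality
    have key : eI ≤ ∑ i ∈ Finset.range q, eJ i := by
      refine le_of_tendsto_of_tendsto heI (tendsto_finsetSum _ fun i _ => heJ i) ?_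
      filter_upwards [eventually_gt_atTop 0] with n hn
      have h1 : colen (I ^ n) R ≤ n * ∑ i ∈ Finset.range q, colen (J i ^ n) (R ⧸ X) := by
        have hIn : Cofin (I ^ n) := cofin_pow ⟨t, ht⟩ n
        rw [colen_eq_sum hIn x (n * q), ← sum_range_div (fun i => colen (J i ^ n) (R ⧸ X)) n q]
        have hlast : colen (col (I ^ n) (x ^ (n * q))) R = 0 := by
          have : col (I ^ n) (x ^ (n * q)) = ⊤ := (Ideal.eq_top_iff_one _).2 (by
            rw [mem_col, one_mul, mul_comm n q, pow_mul]; exact Ideal.pow_mem_pow hq n)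
          rw [this, colen, Submodule.top_smul, Module.length_eq_zero, ENat.toNat_zero]
        rw [hlast, add_zero]
        refine Finset.sum_le_sum fun j _ => ?_
        refine colen_mono (cofin_pow (hJ _) n) ?_
        rw [← Ideal.map_pow]
        refine Ideal.map_mono fun y hy => ?_
        rw [mem_col]
        have hsub : ∀ (i n : ℕ) (y : R), y ∈ col I (x ^ i) ^ n → y * x ^ (i * n) ∈ I ^ n := by
          intro i n
          induction n with
          | zero => intro y _; rw [pow_zero, Ideal.one_eq_top]; trivial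
          | succ n ihn =>
            intro y hy
            rw [pow_succ] at hy
            refine Submodule.smul_induction_on hy (fun u hu v hv => ?_) fun u v hu hv => by rw [add_mul]; exact add_mem hu hv
            rw [smul_eq_mul, Nat.mul_succ, pow_add x, mul_mul_mul_comm, pow_succ I]
            exact Ideal.mul_mem_mul (ihn u hu) hv
        rw [← Nat.div_add_mod j n, pow_add, ← mul_assoc, mul_comm n (j / n)]
        exact Ideal.mul_mem_right _ _ (hsub _ _ y hy)
      rw [← Finset.sum_div, div_le_div_iff₀ (by positivity) (by positivity), pow_succ, ← mul_assoc,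
        mul_comm _ ((n : ℝ)), mul_left_comm]
      refine le_trans (mul_le_mul_of_nonneg_right (Nat.cast_le.2 h1) (by positivity)) ?_
      push_cast
      exact le_of_eq (by ring)
    have hsum : ∑ i ∈ Finset.range q, colen (J i) (R ⧸ X) ≤ colen I R := by
      rw [colen_eq_sum (K := I) ⟨t, ht⟩ x q]
      exact Nat.le_add_right _ _
    have hem0 : 0 ≤ em := ge_of_tendsto' hem fun n => by positivity
    have hē0 : 0 ≤ ē := ge_of_tendsto' hē fun n => by positivity
    calc eI ≤ ∑ i ∈ Finset.range q, eJ i := key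
      _ ≤ ∑ i ∈ Finset.range q, (d.factorial : ℝ) * ē * colen (J i) (R ⧸ X) :=
        Finset.sum_le_sum fun i hi => ih (R ⧸ X) hdX (J i) (hJm i hi) (hJ i) _ _ (heJ i) hē
      _ = (d.factorial : ℝ) * ē * ((∑ i ∈ Finset.range q, colen (J i) (R ⧸ X) : ℕ) : ℝ) := by
        rw [Nat.cast_sum, Finset.mul_sum]
      _ ≤ (d.factorial : ℝ) * (((d + 1 : ℕ) : ℝ) * em) * colen I₀ R₀ :=
        mul_le_mul (mul_le_mul_of_nonneg_left hbar (Nat.cast_nonneg _)) (Nat.cast_le.2 (hsum.trans hlen))
          (Nat.cast_nonneg _) (by positivity)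
      _ = _ := by rw [Nat.factorial_succ]; push_cast; ring

section Extend

variable (R)

instance isPrime_extend : ((maximalIdeal R).map (Polynomial.C : R →+* Polynomial R)).IsPrime :=
  haveI := (maximalIdeal.isMaximal R).isPrime
  Ideal.isPrime_map_C_of_isPrime

/-- `R(X)`. -/
abbrev Ext : Type u := Localization.AtPrime ((maximalIdeal R).map (Polynomial.C : R →+* Polynomial R))

theorem infinite_residue_ext : Infinite (ResidueField (Ext R)) := by
  refine Infinite.of_injective (fun i : ℕ => residue (Ext R) (algebraMap (Polynomial R) (Ext R) (Polynomial.X ^ i))) fun i j hij => ?_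
  by_contra hne
  simp only at hij
  rw [← sub_eq_zero, ← map_sub, ← map_sub, residue_eq_zero_iff,
    ← IsLocalization.AtPrime.map_eq_maximalIdeal ((maximalIdeal R).map (Polynomial.C : R →+* Polynomial R)) (Ext R)] at hij
  rw [IsLocalization.AtPrime.map_eq_maximalIdeal] at hij
  have h1 : Polynomial.X ^ i - Polynomial.X ^ j ∈ (maximalIdeal R).map (Polynomial.C : R →+* Polynomial R) :=
    (IsLocalization.AtPrime.to_map_mem_maximal_iff (Ext R) _ _).1 hij
  have h2 := Ideal.mem_map_C_iff.1 h1 i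
  rw [Polynomial.coeff_sub, Polynomial.coeff_X_pow_self, Polynomial.coeff_X_pow, if_neg hne, sub_zero] at h2
  exact (maximalIdeal.isMaximal R).ne_top ((Ideal.eq_top_iff_one _).2 h2)

theorem algebraMap_ext : algebraMap R (Ext R) = (algebraMap (Polynomial R) (Ext R)).comp Polynomial.C := by
  rw [IsScalarTower.algebraMap_eq R (Polynomial R) (Ext R)]
  rfl

theorem map_max_ext : (maximalIdeal R).map (algebraMap R (Ext R)) = maximalIdeal (Ext R) := by
  rw [algebraMap_ext, ← Ideal.map_map, IsLocalization.AtPrime.map_eq_maximalIdeal]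

theorem ringKrullDim_ext : ringKrullDim (Ext R) = ringKrullDim R := by
  let P := (maximalIdeal R).map (Polynomial.C : R →+* Polynomial R)
  haveI : P.LiesOver (maximalIdeal R) := ⟨by
    show maximalIdeal R = P.comap Polynomial.C
    refine le_antisymm Ideal.le_comap_map fun r hr => ?_
    have := Ideal.mem_map_C_iff.1 hr 0
    simpa using this⟩
  rw [IsLocalization.AtPrime.ringKrullDim_eq_height P (Ext R), (S4688.result R (maximalIdeal R) P).1,
    IsLocalRing.maximalIdeal_height_eq_ringKrullDim]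

theorem colen_ext {I : Ideal R} : colen (I.map (algebraMap R (Ext R))) (Ext R) = colen I R := by
  haveI : IsLocalHom (algebraMap R (Ext R)) := ((IsLocalRing.local_hom_TFAE _).out 2 0).1 (map_max_ext R).le
  haveI : Module.Flat R (Ext R) := Module.Flat.trans R (Polynomial R) (Ext R)
  unfold colen
  congr 1
  have e1 : I.map (algebraMap R (Ext R)) • (⊤ : Submodule (Ext R) (Ext R)) = I.map (algebraMap R (Ext R)) := Ideal.mul_top _
  have e2 : I • (⊤ : Submodule R R) = I := Ideal.mul_top I
  rw [(Submodule.quotEquivOfEq _ _ e1).length_eq, (Submodule.quotEquivOfEq _ _ e2).length_eq,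
    (Algebra.TensorProduct.quotIdealMapEquivTensorQuot (Ext R) I).toLinearEquiv.length_eq,
    IsLocalRing.length_baseChange R (Ext R) (R ⧸ I), map_max_ext]
  rw [show Module.length (Ext R) (Ext R ⧸ maximalIdeal (Ext R)) = 1 from
    Module.length_eq_one_iff.2 (isSimpleModule_iff_isCoatom.2 (maximalIdeal.isMaximal (Ext R)).out), mul_one]

end Extend

/-- Lech's inequality. -/
theorem lech (d : ℕ) (hd : ringKrullDim R = d) {I : Ideal R} (hIm : I ≤ maximalIdeal R) (hI : Cofin I)
    {eI em : ℝ} (heI : HasMult d I eI) (hem : HasMult d (maximalIdeal R) em) :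
    eI ≤ (d.factorial : ℝ) * em * colen I R := by
  haveI := infinite_residue_ext R
  have h := lech_of_infinite d (Ext R) ((ringKrullDim_ext R).trans hd) (I.map (algebraMap R (Ext R)))
    (map_max_ext R ▸ Ideal.map_mono hIm) (by
      obtain ⟨t, ht⟩ := hI
      exact ⟨t, by rw [← map_max_ext, ← Ideal.map_pow]; exact Ideal.map_mono ht⟩) eI em
    (heI.congr fun n => by rw [← Ideal.map_pow, colen_ext])
    (hem.congr fun n => by rw [← map_max_ext, ← Ideal.map_pow, colen_ext])
  rwa [colen_ext] at h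

end Groth.Agent.H1Lech
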