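import Mathlib
import Groth.Agent.H22Alg.SamuelGrowth
import Groth.Agent.H13Grpd.AffLocal

/-! Superficial elements of the maximal ideal. -/

set_option autoImplicit false
universe u

open IsLocalRing Polynomial

namespace Groth.Agent.H1Lech

variable {R : Type u} [CommRing R] [IsNoetherianRing R] [IsLocalRing R]

local notation "Ree" => reesAlgebra (maximalIdeal R)

/-- The degree one embedding. -/
noncomputable def T1 : maximalIdeal R →ₗ[R] Ree where
  toFun a := ⟨monomial 1 (a : R), reesAlgebra.monomial_mem.2 (by rw [pow_one]; exact a.2)⟩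
  map_add' a b := Subtype.ext (map_add _ _ _)
  map_smul' r a := Subtype.ext (map_smul _ _ _)

/-- The kernel of the map to the associated graded ring. -/
noncomputable def J : Ideal Ree := (maximalIdeal R).map (algebraMap R Ree)

theorem coeff_mem_of_mem_J {f : Ree} (hf : f ∈ (J : Ideal Ree)) (n : ℕ) : (f : R[X]).coeff n ∈ maximalIdeal R ^ (n + 1) := by
  induction hf using Submodule.span_induction generalizing n with
  | mem g hg =>
    obtain ⟨r, hr, rfl⟩ := hg
    show (Polynomial.C r).coeff n ∈ _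
    rw [coeff_C]
    split_ifs with h
    · subst h; simpa using hr
    · exact zero_mem _
  | zero => simp
  | add g g' _ _ hg hg' => simpa using add_mem (hg n) (hg' n)
  | smul c g _ hg =>
    show ((c : R[X]) * (g : R[X])).coeff n ∈ _
    rw [coeff_mul]
    refine sum_mem fun ij h => ?_
    rw [← Finset.HasAntidiagonal.mem_antidiagonal.1 h, add_assoc, pow_add]
    exact Ideal.mul_mem_mul (c.2 _) (hg _)

theorem monomial_mem_J {n : ℕ} {r : R} (hr : r ∈ maximalIdeal R ^ (n + 1))
    (h : monomial n r ∈ Ree) : (⟨monomial n r, h⟩ : Ree) ∈ (J : Ideal Ree) := by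
  have key : ∀ r ∈ maximalIdeal R ^ (n + 1), r ∈ maximalIdeal R ^ n ∧
      ∀ h : monomial n r ∈ Ree, (⟨monomial n r, h⟩ : Ree) ∈ (J : Ideal Ree) := by
    intro r hr
    rw [pow_succ'] at hr
    refine Submodule.smul_induction_on hr (fun a ha b hb => ⟨Ideal.mul_mem_left _ a hb, fun h => ?_⟩)
      fun a b ha hb => ⟨add_mem ha.1 hb.1, fun h => ?_⟩
    · have : (⟨monomial n (a • b), h⟩ : Ree) = algebraMap R Ree a * ⟨monomial n b, reesAlgebra.monomial_mem.2 hb⟩ :=
        Subtype.ext (by show monomial n (a • b) = Polynomial.C a * monomial n b; rw [C_mul_monomial, smul_eq_mul])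
      rw [this]
      exact Ideal.mul_mem_right _ _ (Ideal.mem_map_of_mem _ ha)
    · have : (⟨monomial n (a + b), h⟩ : Ree) = ⟨monomial n a, reesAlgebra.monomial_mem.2 ha.1⟩ +
          ⟨monomial n b, reesAlgebra.monomial_mem.2 hb.1⟩ := Subtype.ext (map_add _ _ _)
      rw [this]
      exact add_mem (ha.2 _) (hb.2 _)
  exact (key r hr).2 h

theorem monomial_mem_pow {n : ℕ} : ∀ {r : R}, r ∈ maximalIdeal R ^ n → ∀ h : monomial n r ∈ Ree,
    (⟨monomial n r, h⟩ : Ree) ∈ Ideal.span (Set.range (T1 : maximalIdeal R → Ree)) ^ n := by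
  induction n with
  | zero => intro r _ h; rw [pow_zero, Ideal.one_eq_top]; trivial
  | succ n ih =>
    intro r hr
    have key : r ∈ maximalIdeal R ^ (n + 1) ∧ ∀ h : monomial (n + 1) r ∈ Ree,
        (⟨monomial (n + 1) r, h⟩ : Ree) ∈ Ideal.span (Set.range (T1 : maximalIdeal R → Ree)) ^ (n + 1) := by
      refine Submodule.smul_induction_on (p := fun z => z ∈ maximalIdeal R ^ (n + 1) ∧ ∀ h : monomial (n + 1) z ∈ Ree,
        (⟨monomial (n + 1) z, h⟩ : Ree) ∈ Ideal.span (Set.range (T1 : maximalIdeal R → Ree)) ^ (n + 1)) (pow_succ' (maximalIdeal R) n ▸ hr)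
        (fun a ha b hb => ⟨by rw [pow_succ']; exact Ideal.mul_mem_mul ha hb, fun h => ?_⟩)
        fun a b ha hb => ⟨add_mem ha.1 hb.1, fun h => ?_⟩
      · have : (⟨monomial (n + 1) (a • b), h⟩ : Ree) = T1 ⟨a, ha⟩ * ⟨monomial n b, reesAlgebra.monomial_mem.2 hb⟩ :=
          Subtype.ext (by
            show monomial (n + 1) (a • b) = monomial 1 a * monomial n b
            rw [monomial_mul_monomial, add_comm n 1, smul_eq_mul])
        rw [this, pow_succ' (Ideal.span _) n]
        exact Ideal.mul_mem_mul (Ideal.subset_span ⟨_, rfl⟩) (ih hb _)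
      · have : (⟨monomial (n + 1) (a + b), h⟩ : Ree) = ⟨monomial (n + 1) a, reesAlgebra.monomial_mem.2 ha.1⟩ +
            ⟨monomial (n + 1) b, reesAlgebra.monomial_mem.2 hb.1⟩ := Subtype.ext (map_add _ _ _)
        rw [this]
        exact add_mem (ha.2 _) (hb.2 _)
    exact key.2

/-- Over an infinite residue field a local ring of positive depth has a regular superficial element. -/
theorem exists_superficial [Infinite (ResidueField R)] (hdepth : maximalIdeal R ∉ associatedPrimes R R) :
    ∃ x ∈ maximalIdeal R, IsSMulRegular R x ∧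
      ∃ N : ℕ, ∀ n, N ≤ n → ∀ y, x * y ∈ maximalIdeal R ^ (n + 1) → y ∈ maximalIdeal R ^ n := by
  classical
  let m := maximalIdeal R
  let G := Ree ⧸ (J : Ideal Ree)
  let V : Ideal Ree → Submodule R m := fun p => (p.restrictScalars R).comap T1
  let W : Ideal R → Submodule R m := fun P => Submodule.comap m.subtype P ⊔ m • ⊤
  let S₁ := ((associatedPrimes.finite Ree G).toFinset.filter fun p => V p ≠ ⊤).image V
  let S₂ := (associatedPrimes.finite R R).toFinset.image W
  obtain ⟨x, hx⟩ := H13Grpd.exists_notMem_of_ne_top (S₁ ∪ S₂) id (fun X hX => by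
    rcases Finset.mem_union.1 hX with h | h
    · obtain ⟨p, hp, rfl⟩ := Finset.mem_image.1 h
      exact (Finset.mem_filter.1 hp).2
    · obtain ⟨P, hP, rfl⟩ := Finset.mem_image.1 h
      intro htop
      have hP' := (Set.Finite.mem_toFinset _).1 hP
      have hle : m ≤ P := by
        refine Submodule.le_of_le_smul_of_le_jacobson_bot (IsNoetherian.noetherian m) (maximalIdeal_le_jacobson ⊥) ?_
        intro a ha
        have h1 : (⟨a, ha⟩ : m) ∈ W P := htop.ge trivial
        obtain ⟨b, hb, c, hc, hbc⟩ := Submodule.mem_sup.1 h1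
        have hc' : (c : R) ∈ m • m := by
          have h2 : (c : R) ∈ (m • (⊤ : Submodule R m)).map m.subtype := ⟨c, hc, rfl⟩
          rwa [Submodule.map_smul'', Submodule.map_subtype_top] at h2
        exact (show (b : R) + (c : R) = a from congrArg Subtype.val hbc) ▸
          Submodule.add_mem_sup (show (b : R) ∈ P from hb) hc'
      exact hdepth ((maximalIdeal.isMaximal R).eq_of_le hP'.isPrime.ne_top hle ▸ hP'))
  have hxV : ∀ p ∈ associatedPrimes Ree G, T1 x ∈ p → ∀ a : m, T1 a ∈ p := fun p hp hxp a => by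
    by_contra ha
    refine hx (V p) (Finset.mem_union_left _ (Finset.mem_image.2 ⟨p, Finset.mem_filter.2
      ⟨(Set.Finite.mem_toFinset _).2 hp, fun htop => ha (htop.ge (trivial : a ∈ (⊤ : Submodule R m)))⟩, rfl⟩)) hxp
  have hxP : ∀ P ∈ associatedPrimes R R, (x : R) ∉ P := fun P hP hxP =>
    hx (W P) (Finset.mem_union_right _ (Finset.mem_image.2 ⟨P, (Set.Finite.mem_toFinset _).2 hP, rfl⟩))
      (Submodule.mem_sup_left hxP)
  have hreg : IsSMulRegular R (x : R) := by
    refine isSMulRegular_iff_right_eq_zero_of_smul.2 fun y hy => ?_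
    by_contra hy0
    have hmem : (x : R) ∈ ⋃ p ∈ associatedPrimes R R, (p : Set R) := by
      rw [biUnion_associatedPrimes_eq_zero_divisors]
      exact ⟨y, hy0, hy⟩
    obtain ⟨P, hP, hxP'⟩ := Set.mem_iUnion₂.1 hmem
    exact hxP P hP hxP'
  -- the kernel of multiplication by the leading form
  let H : Submodule Ree G := LinearMap.ker (T1 x • LinearMap.id : G →ₗ[Ree] G)
  have hnil : ∀ (a : m) (h : G), h ∈ H → ∃ k : ℕ, T1 a ^ k • h = 0 := by
    intro a
    by_contra hcon
    push Not at hcon
    obtain ⟨h₀, hh₀, hne₀⟩ := hcon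
    obtain ⟨Q, ⟨h, hhH, hne, rfl⟩, hmax⟩ := set_has_maximal_iff_noetherian.2 (inferInstance : IsNoetherian Ree Ree)
      {Q : Ideal Ree | ∃ h ∈ H, (∀ k : ℕ, T1 a ^ k • h ≠ 0) ∧ Q = LinearMap.ker (LinearMap.toSpanSingleton Ree G h)}
      ⟨_, h₀, hh₀, hne₀, rfl⟩
    have hprime : Ideal.IsPrime (LinearMap.ker (LinearMap.toSpanSingleton Ree G h)) := by
      refine ⟨fun htop => hne 0 ?_, fun {c e} hce => or_iff_not_imp_left.2 fun hc => ?_⟩
      · have h1 : (1 : Ree) • h = 0 := LinearMap.mem_ker.1 (htop.ge (trivial : (1 : Ree) ∈ (⊤ : Ideal Ree)))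
        rwa [pow_zero]
      by_contra he
      by_cases hk : ∀ k : ℕ, T1 a ^ k • (c • h) ≠ 0
      · refine hmax _ ⟨c • h, H.smul_mem c hhH, hk, rfl⟩ (lt_of_le_of_ne (fun z hz => ?_) fun heq => ?_)
        · rw [LinearMap.mem_ker, LinearMap.toSpanSingleton_apply] at hz ⊢
          rw [smul_comm, hz, smul_zero]
        · refine he (heq.ge ?_)
          rw [LinearMap.mem_ker, LinearMap.toSpanSingleton_apply] at hce ⊢
          rwa [smul_smul, mul_comm]
      · push Not at hk
        obtain ⟨k, hk⟩ := hk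
        refine hmax _ ⟨T1 a ^ k • h, H.smul_mem _ hhH, fun l => by rw [smul_smul, ← pow_add]; exact hne _, rfl⟩
          (lt_of_le_of_ne (fun z hz => ?_) fun heq => hc (heq.ge ?_))
        · rw [LinearMap.mem_ker, LinearMap.toSpanSingleton_apply] at hz ⊢
          rw [smul_comm, hz, smul_zero]
        · rw [LinearMap.mem_ker, LinearMap.toSpanSingleton_apply, smul_comm]
          exact hk
    have hass : LinearMap.ker (LinearMap.toSpanSingleton Ree G h) ∈ associatedPrimes Ree G :=
      (isAssociatedPrime_iff).2 ⟨hprime, h, by ext z; simp⟩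
    have hxmem : T1 x ∈ LinearMap.ker (LinearMap.toSpanSingleton Ree G h) := by
      rw [LinearMap.mem_ker, LinearMap.toSpanSingleton_apply]
      exact LinearMap.mem_ker.1 hhH
    exact hne 1 (by rw [pow_one]; exact LinearMap.mem_ker.1 (hxV _ hass hxmem a))
  let M₁ : Ideal Ree := Ideal.span (Set.range (T1 : m → Ree))
  obtain ⟨s, hs⟩ := IsNoetherian.noetherian H
  obtain ⟨K, hK⟩ : ∃ K : ℕ, M₁ ^ K ≤ Module.annihilator Ree H := by
    refine Ideal.exists_pow_le_of_le_radical_of_fg ?_ (IsNoetherian.noetherian _)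
    rw [Ideal.span_le]
    rintro _ ⟨a, rfl⟩
    choose! k hk using hnil a
    refine ⟨s.sup k, Module.mem_annihilator.2 fun z => Subtype.ext ?_⟩
    have : H ≤ LinearMap.ker (T1 a ^ s.sup k • LinearMap.id : G →ₗ[Ree] G) := by
      rw [← hs, Submodule.span_le]
      intro g hg
      rw [SetLike.mem_coe, LinearMap.mem_ker, LinearMap.smul_apply, LinearMap.id_apply,
        ← Nat.sub_add_cancel (Finset.le_sup (f := k) hg), pow_add, mul_smul,
        hk g (hs ▸ Submodule.subset_span hg), smul_zero]
    exact this z.2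
  choose f hf using fun g : s => Submodule.Quotient.mk_surjective _ (g : G)
  let D := Finset.univ.sup fun g : s => ((f g : Ree) : R[X]).natDegree
  have hgraded : ∀ n, K + D < n → ∀ y ∈ m ^ n, (x : R) * y ∈ m ^ (n + 2) → y ∈ m ^ (n + 1) := by
    intro n hn y hy hxy
    let Y : Ree := ⟨monomial n y, reesAlgebra.monomial_mem.2 hy⟩
    have hYH : (Submodule.Quotient.mk Y : G) ∈ H := by
      rw [LinearMap.mem_ker, LinearMap.smul_apply, LinearMap.id_apply, ← Submodule.Quotient.mk_smul,
        Submodule.Quotient.mk_eq_zero]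
      have e : T1 x • Y = ⟨monomial (n + 1) ((x : R) * y), reesAlgebra.monomial_mem.2 (Ideal.pow_le_pow_right (Nat.le_succ _) hxy)⟩ :=
        Subtype.ext (by
          show monomial 1 (x : R) * monomial n y = monomial (n + 1) ((x : R) * y)
          rw [monomial_mul_monomial, add_comm 1 n])
      rw [e]
      exact monomial_mem_J hxy _
    have hspan : (Submodule.Quotient.mk Y : G) ∈ Submodule.span Ree (Set.range fun g : s => (g : G)) := by
      rw [show Set.range (fun g : s => (g : G)) = (s : Set G) from Subtype.range_coe, hs]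
      exact hYH
    obtain ⟨c, hc⟩ := (Submodule.mem_span_range_iff_exists_fun Ree).1 hspan
    let low : s → Ree := fun g => ∑ j ∈ Finset.range K,
      ⟨monomial j ((c g : R[X]).coeff j), reesAlgebra.monomial_mem.2 ((c g).2 j)⟩
    have hlow : ∀ g : s, c g • (g : G) = low g • (g : G) := fun g => by
      rw [← sub_eq_zero]
      refine (sub_smul (c g) (low g) (g : G)).symm.trans ?_
      have hcg : c g - low g ∈ M₁ ^ K := by
        have e : c g = ∑ j ∈ Finset.range ((c g : R[X]).natDegree + 1 + K),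
            (⟨monomial j ((c g : R[X]).coeff j), reesAlgebra.monomial_mem.2 ((c g).2 j)⟩ : Ree) := Subtype.ext (by
          rw [AddSubmonoidClass.coe_finsetSum]
          exact Polynomial.as_sum_range' _ _ (by omega))
        rw [e, ← Finset.sum_sdiff (Finset.range_subset_range.2 (Nat.le_add_left K _)), add_sub_cancel_right]
        refine sum_mem fun j hj => Ideal.pow_le_pow_right ?_ (monomial_mem_pow ((c g).2 j) _)
        simp only [Finset.mem_sdiff, Finset.mem_range] at hj
        omega
      exact congrArg Subtype.val (Module.mem_annihilator.1 (hK hcg) ⟨(g : G), hs ▸ Submodule.subset_span g.2⟩)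
    have hJ' : Y - ∑ g, low g * f g ∈ (J : Ideal Ree) := by
      rw [← Submodule.Quotient.eq, ← hc, ← Submodule.mkQ_apply, map_sum]
      refine Finset.sum_congr rfl fun g _ => ?_
      rw [Submodule.mkQ_apply, ← smul_eq_mul, Submodule.Quotient.mk_smul, hf, hlow]
    have h0 : ((∑ g, low g * f g : Ree) : R[X]).coeff n = 0 := by
      rw [AddSubmonoidClass.coe_finsetSum, finset_sum_coeff]
      refine Finset.sum_eq_zero fun g _ => coeff_eq_zero_of_natDegree_lt ?_
      refine lt_of_le_of_lt (natDegree_mul_le (p := (low g : R[X]))) (lt_of_le_of_lt (add_le_add ?_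
        (Finset.le_sup (f := fun g : s => ((f g : Ree) : R[X]).natDegree) (Finset.mem_univ g))) hn)
      rw [AddSubmonoidClass.coe_finsetSum]
      refine natDegree_sum_le_of_forall_le _ _ fun j hj => (natDegree_monomial_le _).trans (Finset.mem_range.1 hj).le
    have h1 := coeff_mem_of_mem_J hJ' n
    rw [AddSubgroupClass.coe_sub, coeff_sub, h0, sub_zero, show ((Y : R[X])).coeff n = y from coeff_monomial_same n y] at h1
    exact h1
  obtain ⟨c, hc⟩ := H22Alg.exists_comap_pow_smul_le ((x : R) • LinearMap.id : R →ₗ[R] R) m (fun _ _ h => hreg h)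
  refine ⟨x, x.2, hreg, K + D + 1 + c, fun n hn y hy => ?_⟩
  have hAR : y ∈ m ^ (n + 1 - c) := by
    have h2 := hc (n + 1 - c)
    rw [show n + 1 - c + c = n + 1 by omega, smul_eq_mul, Ideal.mul_top, smul_eq_mul, Ideal.mul_top] at h2
    exact h2 hy
  suffices h : ∀ j, n + 1 - c + j ≤ n → y ∈ m ^ (n + 1 - c + j) by
    rcases Nat.eq_zero_or_pos c with rfl | hc0
    · exact Ideal.pow_le_pow_right (by omega) hAR
    · have := h (c - 1) (by omega)
      rwa [show n + 1 - c + (c - 1) = n by omega] at this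
  intro j hj
  induction j with
  | zero => exact hAR
  | succ j ih =>
    exact hgraded (n + 1 - c + j) (by omega) y (ih (by omega)) (Ideal.pow_le_pow_right (by omega) hy)

end Groth.Agent.H1Lech
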